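import Cfsg.Prelude.Def_Spor_HN

/-!
# Homomorphisms out of the presented Harada–Norton group into the units of a monoid
-/

set_option autoImplicit false

namespace CfsgLib.StructB.HN133

open Cfsg.Spor

/-- Products certifying the fourteen relations give a homomorphism into the units. -/
theorem exists_hom {M : Type*} [Monoid M]
    {x X y Y z t x2 y2 y3 a1 k1 xy c c2 b1 b2 b bb xy2 xy4 e ee zx d1 d2 d3 d4 w W f3 f4 u U g1 g2
      g gg g3 t2 t4 h h2 ty zt zt2 : M}
    (h01 : x * x = x2) (h02 : x * X = 1) (h03 : X * x = 1) (h04 : y * Y = 1) (h05 : Y * y = 1)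
    (h06 : y * y = y2) (h07 : y2 * y = y3) (h08 : y3 * y3 = 1) (h09 : x2 * y = a1)
    (h10 : a1 * x2 = y) (h11 : X * Y = k1) (h12 : x * y = xy) (h13 : k1 * xy = c)
    (h14 : c * c = c2) (h15 : c2 * c = 1) (h16 : X * y2 = b1) (h17 : x * y3 = b2)
    (h18 : b1 * b2 = b) (h19 : b * b = bb) (h20 : bb * b = 1) (h21 : xy * xy = xy2)
    (h22 : xy2 * xy2 = xy4) (h23 : xy4 * xy4 = 1) (h24 : xy * b2 = e) (h25 : e * e = ee)
    (h26 : ee * ee = 1) (h27 : z * z = 1) (h28 : z * x = zx) (h29 : zx * zx = 1)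
    (h30 : y * x = d1) (h31 : d1 * d1 = d2) (h32 : d2 * y2 = d3) (h33 : x * Y = d4)
    (h34 : d3 * d4 = w) (h35 : w * W = 1) (h36 : W * z = f3) (h37 : f3 * w = f4)
    (h38 : z * f4 = x2) (h39 : y3 * xy2 = u) (h40 : u * U = 1) (h41 : U * z = g1)
    (h42 : g1 * u = g2) (h43 : g2 * x = g) (h44 : g * g = gg) (h45 : gg * g = g3)
    (h46 : z * g3 = 1) (h47 : t * t = t2) (h48 : t2 * t2 = t4) (h49 : t4 * t = 1)
    (h50 : X * t = h) (h51 : h * x = h2) (h52 : h2 * t2 = 1) (h53 : t * y = ty) (h54 : y * t = ty)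
    (h55 : z * t = zt) (h56 : zt * zt = zt2) (h57 : zt2 * zt = 1) :
    ∃ f : HN →* Mˣ,
      ((f (PresentedGroup.mk _ (HN.x ^ 2)) : Mˣ) : M) = x2 ∧
      ((f (PresentedGroup.mk _ HN.x) : Mˣ) : M) = x ∧ ((f (PresentedGroup.mk _ HN.y) : Mˣ) : M) = y ∧
      ((f (PresentedGroup.mk _ HN.z) : Mˣ) : M) = z ∧ ((f (PresentedGroup.mk _ HN.t) : Mˣ) : M) = t := by
  have ht : t * t4 = 1 := by
    subst h48 h47; simpa only [mul_assoc] using h49
  let vx : Mˣ := ⟨x, X, h02, h03⟩
  let vy : Mˣ := ⟨y, Y, h04, h05⟩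
  let vz : Mˣ := ⟨z, z, h27, h27⟩
  let vt : Mˣ := ⟨t, t4, ht, h49⟩
  let val : HN.Gen → Mˣ := fun g => match g with
    | .x => vx
    | .y => vy
    | .z => vz
    | .t => vt
  have eX : ((vx⁻¹ : Mˣ) : M) = X := rfl
  have eY : ((vy⁻¹ : Mˣ) : M) = Y := rfl
  have eZ : ((vz⁻¹ : Mˣ) : M) = z := rfl
  have ew : ((vy * vx * vy * vx * vy ^ 2 * vx * vy⁻¹ : Mˣ) : M) = w := by
    subst h34 h33 h32 h31 h30 h06
    simp [vx, vy, pow_two, mul_assoc]
  have eW : (((vy * vx * vy * vx * vy ^ 2 * vx * vy⁻¹)⁻¹ : Mˣ) : M) = W :=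
    Units.inv_eq_of_mul_eq_one_right (by rw [ew, h35])
  have eu : ((vy ^ 3 * vx * vy * vx * vy : Mˣ) : M) = u := by
    subst h39 h21 h12 h07 h06
    simp [vx, vy, pow_succ, mul_assoc]
  have eU : (((vy ^ 3 * vx * vy * vx * vy)⁻¹ : Mˣ) : M) = U :=
    Units.inv_eq_of_mul_eq_one_right (by rw [eu, h40])
  have hrel : ∀ r ∈ coxRelators HN.edges ∪ {r | r ∈ HN.extra}, FreeGroup.lift val r = 1 := by
    intro r hr
    rcases hr with hr | hr
    · simp [coxRelators, coxNodes, HN.edges] at hr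
    · simp only [HN.extra, List.mem_cons, List.not_mem_nil, or_false, Set.mem_setOf_eq] at hr
      rcases hr with rfl | rfl | rfl | rfl | rfl | rfl | rfl | rfl | rfl | rfl | rfl | rfl | rfl | rfl <;>
        simp only [map_mul, map_pow, map_inv, HN.x, HN.y, HN.z, HN.t, FreeGroup.lift_apply_of, val]
      · ext; subst h07 h06; simpa [vy, pow_succ, mul_assoc] using h08
      · rw [mul_inv_eq_one]; ext; subst h09 h01; simpa [vx, vy, pow_two, mul_assoc] using h10
      · ext; subst h14 h13 h12 h11; simpa [vx, vy, pow_succ, mul_assoc] using h15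
      · ext; subst h19 h18 h17 h16 h07 h06; simpa [vx, vy, pow_succ, mul_assoc] using h20
      · ext; subst h22 h21 h12; simpa [vx, vy, pow_succ, mul_assoc] using h23
      · ext; subst h25 h24 h17 h12 h07 h06; simpa [vx, vy, pow_succ, mul_assoc] using h26
      · ext; simpa [vz, pow_two] using h27
      · ext; subst h28; simpa [vx, vz, pow_two, mul_assoc] using h29
      · rw [mul_inv_eq_one]; ext
        rw [Units.val_mul, Units.val_mul, Units.val_mul, eZ, eW, ew, Units.val_pow_eq_pow_val]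
        subst h37 h36
        simpa [vx, vz, pow_two, h01, mul_assoc] using h38
      · ext
        rw [Units.val_mul, Units.val_pow_eq_pow_val, Units.val_mul, Units.val_mul, Units.val_mul, eU, eu]
        subst h45 h44 h43 h42 h41
        simpa [vx, vz, pow_succ, mul_assoc] using h46
      · ext; subst h48 h47; simpa [vt, pow_succ, mul_assoc] using h49
      · ext; subst h51 h50 h47; simpa [vx, vt, pow_two, mul_assoc] using h52
      · rw [mul_assoc, mul_assoc, inv_mul_eq_one, eq_inv_mul_iff_mul_eq]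
        ext; simp [vt, vy, h53, h54]
      · ext; subst h56 h55; simpa [vz, vt, pow_succ, mul_assoc] using h57
  refine ⟨PresentedGroup.toGroup hrel, ?_, ?_, ?_, ?_, ?_⟩
  · show ((FreeGroup.lift val (HN.x ^ 2) : Mˣ) : M) = x2
    rw [map_pow, HN.x, FreeGroup.lift_apply_of]
    simp [val, vx, pow_two, h01]
  · show ((FreeGroup.lift val HN.x : Mˣ) : M) = x
    simp [HN.x, val, vx]
  · show ((FreeGroup.lift val HN.y : Mˣ) : M) = y
    simp [HN.y, val, vy]
  · show ((FreeGroup.lift val HN.z : Mˣ) : M) = z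
    simp [HN.z, val, vz]
  · show ((FreeGroup.lift val HN.t : Mˣ) : M) = t
    simp [HN.t, val, vt]

end CfsgLib.StructB.HN133
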