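import Cfsg.Agent.Lib.StructB.HN133.Data0
import Cfsg.Agent.Lib.StructB.HN133.Data1
import Cfsg.Agent.Lib.StructB.HN133.Data2
import Cfsg.Agent.Lib.StructB.HN133.Data3
import Cfsg.Agent.Lib.StructB.HN133.Data4
import Cfsg.Agent.Lib.StructB.HN133.Data5

/-! Products of the matrices. -/

set_option autoImplicit false
set_option maxRecDepth 100000
set_option Elab.async false

namespace CfsgLib.StructB.HN133

theorem mul_y_y : mulOK m_y m_y p_y m_y2 = true := by decide +kernel

theorem mul_y2_y : mulOK m_y2 m_y p_y m_y3 = true := by decide +kernel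

theorem mul_y3_y3 : mulOK m_y3 m_y3 p_y3 m_one = true := by decide +kernel

theorem mul_x2_y : mulOK m_x2 m_y p_y m_a1 = true := by decide +kernel

theorem mul_a1_x2 : mulOK m_a1 m_x2 p_x2 m_y = true := by decide +kernel

end CfsgLib.StructB.HN133
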