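import Cfsg.Agent.Lib.StructB.HN133.Data0
import Cfsg.Agent.Lib.StructB.HN133.Data1
import Cfsg.Agent.Lib.StructB.HN133.Data2
import Cfsg.Agent.Lib.StructB.HN133.Data3
import Cfsg.Agent.Lib.StructB.HN133.Data4
import Cfsg.Agent.Lib.StructB.HN133.Data5

/-! Products of the matrices. -/

set_option autoImplicit false
set_option maxRecDepth 100000
set_option Elab.async false

namespace CfsgLib.StructB.HN133

theorem mul_h_x : mulOK m_h m_x p_x m_h2 = true := by decide +kernel

theorem mul_h2_t2 : mulOK m_h2 m_t2 p_t2 m_one = true := by decide +kernel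

theorem mul_t_y : mulOK m_t m_y p_y m_ty = true := by decide +kernel

theorem mul_y_t : mulOK m_y m_t p_t m_ty = true := by decide +kernel

theorem mul_z_t : mulOK m_z m_t p_t m_zt = true := by decide +kernel

end CfsgLib.StructB.HN133
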