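import Cfsg.Agent.Lib.StructB.HN133.Data0
import Cfsg.Agent.Lib.StructB.HN133.Data1
import Cfsg.Agent.Lib.StructB.HN133.Data2
import Cfsg.Agent.Lib.StructB.HN133.Data3
import Cfsg.Agent.Lib.StructB.HN133.Data4
import Cfsg.Agent.Lib.StructB.HN133.Data5

/-! Products of the matrices. -/

set_option autoImplicit false
set_option maxRecDepth 100000
set_option Elab.async false

namespace CfsgLib.StructB.HN133

theorem mul_X_Y : mulOK m_X m_Y p_Y m_k1 = true := by decide +kernel

theorem mul_x_y : mulOK m_x m_y p_y m_xy = true := by decide +kernel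

theorem mul_k1_xy : mulOK m_k1 m_xy p_xy m_c = true := by decide +kernel

theorem mul_c_c : mulOK m_c m_c p_c m_c2 = true := by decide +kernel

theorem mul_c2_c : mulOK m_c2 m_c p_c m_one = true := by decide +kernel

end CfsgLib.StructB.HN133
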