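import Cfsg.Agent.Lib.StructB.HN133.Data0
import Cfsg.Agent.Lib.StructB.HN133.Data1
import Cfsg.Agent.Lib.StructB.HN133.Data2
import Cfsg.Agent.Lib.StructB.HN133.Data3
import Cfsg.Agent.Lib.StructB.HN133.Data4
import Cfsg.Agent.Lib.StructB.HN133.Data5

/-! Products of the matrices. -/

set_option autoImplicit false
set_option maxRecDepth 100000
set_option Elab.async false

namespace CfsgLib.StructB.HN133

theorem mul_X_y2 : mulOK m_X m_y2 p_y2 m_b1 = true := by decide +kernel

theorem mul_x_y3 : mulOK m_x m_y3 p_y3 m_b2 = true := by decide +kernel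

theorem mul_b1_b2 : mulOK m_b1 m_b2 p_b2 m_b = true := by decide +kernel

theorem mul_b_b : mulOK m_b m_b p_b m_bb = true := by decide +kernel

theorem mul_bb_b : mulOK m_bb m_b p_b m_one = true := by decide +kernel

end CfsgLib.StructB.HN133
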