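import Cfsg.Agent.Lib.StructB.HN133.Data0
import Cfsg.Agent.Lib.StructB.HN133.Data1
import Cfsg.Agent.Lib.StructB.HN133.Data2
import Cfsg.Agent.Lib.StructB.HN133.Data3
import Cfsg.Agent.Lib.StructB.HN133.Data4
import Cfsg.Agent.Lib.StructB.HN133.Data5

/-! Products of the matrices. -/

set_option autoImplicit false
set_option maxRecDepth 100000
set_option Elab.async false

namespace CfsgLib.StructB.HN133

theorem mul_xy_xy : mulOK m_xy m_xy p_xy m_xy2 = true := by decide +kernel

theorem mul_xy2_xy2 : mulOK m_xy2 m_xy2 p_xy2 m_xy4 = true := by decide +kernel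

theorem mul_xy4_xy4 : mulOK m_xy4 m_xy4 p_xy4 m_one = true := by decide +kernel

theorem mul_xy_b2 : mulOK m_xy m_b2 p_b2 m_e = true := by decide +kernel

theorem mul_e_e : mulOK m_e m_e p_e m_ee = true := by decide +kernel

end CfsgLib.StructB.HN133
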