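import Cfsg.Agent.Lib.StructB.HN133.Data0
import Cfsg.Agent.Lib.StructB.HN133.Data1
import Cfsg.Agent.Lib.StructB.HN133.Data2
import Cfsg.Agent.Lib.StructB.HN133.Data3
import Cfsg.Agent.Lib.StructB.HN133.Data4
import Cfsg.Agent.Lib.StructB.HN133.Data5

/-! Products of the matrices. -/

set_option autoImplicit false
set_option maxRecDepth 100000
set_option Elab.async false

namespace CfsgLib.StructB.HN133

theorem mul_ee_ee : mulOK m_ee m_ee p_ee m_one = true := by decide +kernel

theorem mul_z_z : mulOK m_z m_z p_z m_one = true := by decide +kernel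

theorem mul_z_x : mulOK m_z m_x p_x m_zx = true := by decide +kernel

theorem mul_zx_zx : mulOK m_zx m_zx p_zx m_one = true := by decide +kernel

theorem mul_y_x : mulOK m_y m_x p_x m_d1 = true := by decide +kernel

end CfsgLib.StructB.HN133
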