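import Cfsg.Agent.Lib.StructB.HN133.Data0
import Cfsg.Agent.Lib.StructB.HN133.Data1
import Cfsg.Agent.Lib.StructB.HN133.Data2
import Cfsg.Agent.Lib.StructB.HN133.Data3
import Cfsg.Agent.Lib.StructB.HN133.Data4
import Cfsg.Agent.Lib.StructB.HN133.Data5

/-! Products of the matrices. -/

set_option autoImplicit false
set_option maxRecDepth 100000
set_option Elab.async false

namespace CfsgLib.StructB.HN133

theorem mul_d1_d1 : mulOK m_d1 m_d1 p_d1 m_d2 = true := by decide +kernel

theorem mul_d2_y2 : mulOK m_d2 m_y2 p_y2 m_d3 = true := by decide +kernel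

theorem mul_x_Y : mulOK m_x m_Y p_Y m_d4 = true := by decide +kernel

theorem mul_d3_d4 : mulOK m_d3 m_d4 p_d4 m_w = true := by decide +kernel

theorem mul_w_W : mulOK m_w m_W p_W m_one = true := by decide +kernel

end CfsgLib.StructB.HN133
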