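import Cfsg.Agent.Lib.StructB.HN133.Data0
import Cfsg.Agent.Lib.StructB.HN133.Data1
import Cfsg.Agent.Lib.StructB.HN133.Data2
import Cfsg.Agent.Lib.StructB.HN133.Data3
import Cfsg.Agent.Lib.StructB.HN133.Data4
import Cfsg.Agent.Lib.StructB.HN133.Data5

/-! Products of the matrices. -/

set_option autoImplicit false
set_option maxRecDepth 100000
set_option Elab.async false

namespace CfsgLib.StructB.HN133

theorem mul_W_z : mulOK m_W m_z p_z m_f3 = true := by decide +kernel

theorem mul_f3_w : mulOK m_f3 m_w p_w m_f4 = true := by decide +kernel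

theorem mul_z_f4 : mulOK m_z m_f4 p_f4 m_x2 = true := by decide +kernel

theorem mul_y3_xy2 : mulOK m_y3 m_xy2 p_xy2 m_u = true := by decide +kernel

theorem mul_u_U : mulOK m_u m_U p_U m_one = true := by decide +kernel

end CfsgLib.StructB.HN133
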