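import Cfsg.Agent.Lib.StructB.HN133.Data0
import Cfsg.Agent.Lib.StructB.HN133.Data1
import Cfsg.Agent.Lib.StructB.HN133.Data2
import Cfsg.Agent.Lib.StructB.HN133.Data3
import Cfsg.Agent.Lib.StructB.HN133.Data4
import Cfsg.Agent.Lib.StructB.HN133.Data5

/-! Products of the matrices. -/

set_option autoImplicit false
set_option maxRecDepth 100000
set_option Elab.async false

namespace CfsgLib.StructB.HN133

theorem mul_U_z : mulOK m_U m_z p_z m_g1 = true := by decide +kernel

theorem mul_g1_u : mulOK m_g1 m_u p_u m_g2 = true := by decide +kernel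

theorem mul_g2_x : mulOK m_g2 m_x p_x m_g = true := by decide +kernel

theorem mul_g_g : mulOK m_g m_g p_g m_gg = true := by decide +kernel

theorem mul_gg_g : mulOK m_gg m_g p_g m_g3 = true := by decide +kernel

end CfsgLib.StructB.HN133
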