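import Cfsg.Agent.Lib.StructB.HN133.Ops0
import Cfsg.Agent.Lib.StructB.HN133.Ops1
import Cfsg.Agent.Lib.StructB.HN133.Ops2
import Cfsg.Agent.Lib.StructB.HN133.Ops3
import Cfsg.Agent.Lib.StructB.HN133.Ops4
import Cfsg.Agent.Lib.StructB.HN133.Ops5
import Cfsg.Agent.Lib.StructB.HN133.Ops6
import Cfsg.Agent.Lib.StructB.HN133.Ops7
import Cfsg.Agent.Lib.StructB.HN133.Ops8
import Cfsg.Agent.Lib.StructB.HN133.Ops9
import Cfsg.Agent.Lib.StructB.HN133.Ops10
import Cfsg.Agent.Lib.StructB.HN133.Ops11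
import Cfsg.Agent.Lib.StructB.HN133.Abstract

/-! The representation of degree 133: the square of `x` is nontrivial in the presented Harada–Norton group. -/

set_option autoImplicit false
set_option maxRecDepth 100000
set_option Elab.async false

namespace CfsgLib.StructB.HN133

open Cfsg.Spor

theorem one_ok : mat m_one = 1 := matN_eq_one (by decide +kernel)

theorem x2_entry : (unpack 256 133 (m_x2.getD 77 0)).getD 77 0 = 40 := by decide +kernel

theorem e01 : mat m_x * mat m_x = mat m_x2 := mul_of_ok (A := m_x) (M := m_x) (P := p_x) (C := m_x2) mul_x_x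

theorem e02 : mat m_x * mat m_X = 1 := Eq.trans (mul_of_ok (A := m_x) (M := m_X) (P := p_X) (C := m_one) mul_x_X) one_ok

theorem e03 : mat m_X * mat m_x = 1 := Eq.trans (mul_of_ok (A := m_X) (M := m_x) (P := p_x) (C := m_one) mul_X_x) one_ok

theorem e04 : mat m_y * mat m_Y = 1 := Eq.trans (mul_of_ok (A := m_y) (M := m_Y) (P := p_Y) (C := m_one) mul_y_Y) one_ok

theorem e05 : mat m_Y * mat m_y = 1 := Eq.trans (mul_of_ok (A := m_Y) (M := m_y) (P := p_y) (C := m_one) mul_Y_y) one_ok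

theorem e06 : mat m_y * mat m_y = mat m_y2 := mul_of_ok (A := m_y) (M := m_y) (P := p_y) (C := m_y2) mul_y_y

theorem e07 : mat m_y2 * mat m_y = mat m_y3 := mul_of_ok (A := m_y2) (M := m_y) (P := p_y) (C := m_y3) mul_y2_y

theorem e08 : mat m_y3 * mat m_y3 = 1 := Eq.trans (mul_of_ok (A := m_y3) (M := m_y3) (P := p_y3) (C := m_one) mul_y3_y3) one_ok

theorem e09 : mat m_x2 * mat m_y = mat m_a1 := mul_of_ok (A := m_x2) (M := m_y) (P := p_y) (C := m_a1) mul_x2_y

theorem e10 : mat m_a1 * mat m_x2 = mat m_y := mul_of_ok (A := m_a1) (M := m_x2) (P := p_x2) (C := m_y) mul_a1_x2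

theorem e11 : mat m_X * mat m_Y = mat m_k1 := mul_of_ok (A := m_X) (M := m_Y) (P := p_Y) (C := m_k1) mul_X_Y

theorem e12 : mat m_x * mat m_y = mat m_xy := mul_of_ok (A := m_x) (M := m_y) (P := p_y) (C := m_xy) mul_x_y

theorem e13 : mat m_k1 * mat m_xy = mat m_c := mul_of_ok (A := m_k1) (M := m_xy) (P := p_xy) (C := m_c) mul_k1_xy

theorem e14 : mat m_c * mat m_c = mat m_c2 := mul_of_ok (A := m_c) (M := m_c) (P := p_c) (C := m_c2) mul_c_c

theorem e15 : mat m_c2 * mat m_c = 1 := Eq.trans (mul_of_ok (A := m_c2) (M := m_c) (P := p_c) (C := m_one) mul_c2_c) one_ok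

theorem e16 : mat m_X * mat m_y2 = mat m_b1 := mul_of_ok (A := m_X) (M := m_y2) (P := p_y2) (C := m_b1) mul_X_y2

theorem e17 : mat m_x * mat m_y3 = mat m_b2 := mul_of_ok (A := m_x) (M := m_y3) (P := p_y3) (C := m_b2) mul_x_y3

theorem e18 : mat m_b1 * mat m_b2 = mat m_b := mul_of_ok (A := m_b1) (M := m_b2) (P := p_b2) (C := m_b) mul_b1_b2

theorem e19 : mat m_b * mat m_b = mat m_bb := mul_of_ok (A := m_b) (M := m_b) (P := p_b) (C := m_bb) mul_b_b

theorem e20 : mat m_bb * mat m_b = 1 := Eq.trans (mul_of_ok (A := m_bb) (M := m_b) (P := p_b) (C := m_one) mul_bb_b) one_ok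

theorem e21 : mat m_xy * mat m_xy = mat m_xy2 := mul_of_ok (A := m_xy) (M := m_xy) (P := p_xy) (C := m_xy2) mul_xy_xy

theorem e22 : mat m_xy2 * mat m_xy2 = mat m_xy4 := mul_of_ok (A := m_xy2) (M := m_xy2) (P := p_xy2) (C := m_xy4) mul_xy2_xy2

theorem e23 : mat m_xy4 * mat m_xy4 = 1 := Eq.trans (mul_of_ok (A := m_xy4) (M := m_xy4) (P := p_xy4) (C := m_one) mul_xy4_xy4) one_ok

theorem e24 : mat m_xy * mat m_b2 = mat m_e := mul_of_ok (A := m_xy) (M := m_b2) (P := p_b2) (C := m_e) mul_xy_b2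

theorem e25 : mat m_e * mat m_e = mat m_ee := mul_of_ok (A := m_e) (M := m_e) (P := p_e) (C := m_ee) mul_e_e

theorem e26 : mat m_ee * mat m_ee = 1 := Eq.trans (mul_of_ok (A := m_ee) (M := m_ee) (P := p_ee) (C := m_one) mul_ee_ee) one_ok

theorem e27 : mat m_z * mat m_z = 1 := Eq.trans (mul_of_ok (A := m_z) (M := m_z) (P := p_z) (C := m_one) mul_z_z) one_ok

theorem e28 : mat m_z * mat m_x = mat m_zx := mul_of_ok (A := m_z) (M := m_x) (P := p_x) (C := m_zx) mul_z_x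

theorem e29 : mat m_zx * mat m_zx = 1 := Eq.trans (mul_of_ok (A := m_zx) (M := m_zx) (P := p_zx) (C := m_one) mul_zx_zx) one_ok

theorem e30 : mat m_y * mat m_x = mat m_d1 := mul_of_ok (A := m_y) (M := m_x) (P := p_x) (C := m_d1) mul_y_x

theorem e31 : mat m_d1 * mat m_d1 = mat m_d2 := mul_of_ok (A := m_d1) (M := m_d1) (P := p_d1) (C := m_d2) mul_d1_d1

theorem e32 : mat m_d2 * mat m_y2 = mat m_d3 := mul_of_ok (A := m_d2) (M := m_y2) (P := p_y2) (C := m_d3) mul_d2_y2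

theorem e33 : mat m_x * mat m_Y = mat m_d4 := mul_of_ok (A := m_x) (M := m_Y) (P := p_Y) (C := m_d4) mul_x_Y

theorem e34 : mat m_d3 * mat m_d4 = mat m_w := mul_of_ok (A := m_d3) (M := m_d4) (P := p_d4) (C := m_w) mul_d3_d4

theorem e35 : mat m_w * mat m_W = 1 := Eq.trans (mul_of_ok (A := m_w) (M := m_W) (P := p_W) (C := m_one) mul_w_W) one_ok

theorem e36 : mat m_W * mat m_z = mat m_f3 := mul_of_ok (A := m_W) (M := m_z) (P := p_z) (C := m_f3) mul_W_z

theorem e37 : mat m_f3 * mat m_w = mat m_f4 := mul_of_ok (A := m_f3) (M := m_w) (P := p_w) (C := m_f4) mul_f3_w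

theorem e38 : mat m_z * mat m_f4 = mat m_x2 := mul_of_ok (A := m_z) (M := m_f4) (P := p_f4) (C := m_x2) mul_z_f4

theorem e39 : mat m_y3 * mat m_xy2 = mat m_u := mul_of_ok (A := m_y3) (M := m_xy2) (P := p_xy2) (C := m_u) mul_y3_xy2

theorem e40 : mat m_u * mat m_U = 1 := Eq.trans (mul_of_ok (A := m_u) (M := m_U) (P := p_U) (C := m_one) mul_u_U) one_ok

theorem e41 : mat m_U * mat m_z = mat m_g1 := mul_of_ok (A := m_U) (M := m_z) (P := p_z) (C := m_g1) mul_U_z

theorem e42 : mat m_g1 * mat m_u = mat m_g2 := mul_of_ok (A := m_g1) (M := m_u) (P := p_u) (C := m_g2) mul_g1_u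

theorem e43 : mat m_g2 * mat m_x = mat m_g := mul_of_ok (A := m_g2) (M := m_x) (P := p_x) (C := m_g) mul_g2_x

theorem e44 : mat m_g * mat m_g = mat m_gg := mul_of_ok (A := m_g) (M := m_g) (P := p_g) (C := m_gg) mul_g_g

theorem e45 : mat m_gg * mat m_g = mat m_g3 := mul_of_ok (A := m_gg) (M := m_g) (P := p_g) (C := m_g3) mul_gg_g

theorem e46 : mat m_z * mat m_g3 = 1 := Eq.trans (mul_of_ok (A := m_z) (M := m_g3) (P := p_g3) (C := m_one) mul_z_g3) one_ok

theorem e47 : mat m_t * mat m_t = mat m_t2 := mul_of_ok (A := m_t) (M := m_t) (P := p_t) (C := m_t2) mul_t_t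

theorem e48 : mat m_t2 * mat m_t2 = mat m_t4 := mul_of_ok (A := m_t2) (M := m_t2) (P := p_t2) (C := m_t4) mul_t2_t2

theorem e49 : mat m_t4 * mat m_t = 1 := Eq.trans (mul_of_ok (A := m_t4) (M := m_t) (P := p_t) (C := m_one) mul_t4_t) one_ok

theorem e50 : mat m_X * mat m_t = mat m_h := mul_of_ok (A := m_X) (M := m_t) (P := p_t) (C := m_h) mul_X_t

theorem e51 : mat m_h * mat m_x = mat m_h2 := mul_of_ok (A := m_h) (M := m_x) (P := p_x) (C := m_h2) mul_h_x

theorem e52 : mat m_h2 * mat m_t2 = 1 := Eq.trans (mul_of_ok (A := m_h2) (M := m_t2) (P := p_t2) (C := m_one) mul_h2_t2) one_ok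

theorem e53 : mat m_t * mat m_y = mat m_ty := mul_of_ok (A := m_t) (M := m_y) (P := p_y) (C := m_ty) mul_t_y

theorem e54 : mat m_y * mat m_t = mat m_ty := mul_of_ok (A := m_y) (M := m_t) (P := p_t) (C := m_ty) mul_y_t

theorem e55 : mat m_z * mat m_t = mat m_zt := mul_of_ok (A := m_z) (M := m_t) (P := p_t) (C := m_zt) mul_z_t

theorem e56 : mat m_zt * mat m_zt = mat m_zt2 := mul_of_ok (A := m_zt) (M := m_zt) (P := p_zt) (C := m_zt2) mul_zt_zt

theorem e57 : mat m_zt2 * mat m_zt = 1 := Eq.trans (mul_of_ok (A := m_zt2) (M := m_zt) (P := p_zt) (C := m_one) mul_zt2_zt) one_ok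

theorem exists_rep : ∃ f : HN →* (Matrix (Fin 133) (Fin 133) (ZMod 41))ˣ,
    (f (PresentedGroup.mk _ (HN.x ^ 2))).val = mat m_x2 ∧
    (f (PresentedGroup.mk _ HN.x)).val = mat m_x ∧ (f (PresentedGroup.mk _ HN.y)).val = mat m_y ∧
    (f (PresentedGroup.mk _ HN.z)).val = mat m_z ∧ (f (PresentedGroup.mk _ HN.t)).val = mat m_t :=
  exists_hom e01 e02 e03 e04 e05 e06 e07 e08 e09 e10 e11 e12 e13 e14 e15 e16 e17 e18 e19 e20 e21 e22 e23 e24 e25 e26 e27 e28 e29 e30 e31 e32 e33 e34 e35 e36 e37 e38 e39 e40 e41 e42 e43 e44 e45 e46 e47 e48 e49 e50 e51 e52 e53 e54 e55 e56 e57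

/-- The central involution of the double cover survives. -/
theorem x_sq_ne_one : (PresentedGroup.mk (coxRelators HN.edges ∪ {r | r ∈ HN.extra}) (HN.x ^ 2)) ≠ 1 := by
  obtain ⟨f, hf, -⟩ := exists_rep
  intro h
  rw [h, map_one, Units.val_one, ← one_ok] at hf
  have h77 := congrFun (congrFun hf (Fin.mk 77 (by decide))) (Fin.mk 77 (by decide))
  rw [show mat m_one = (1 : Matrix (Fin 133) (Fin 133) (ZMod 41)) from one_ok, Matrix.one_apply_eq] at h77
  change (1 : ZMod 41) = (((unpack 256 133 (m_x2.getD 77 0)).getD 77 0 : ℕ) : ZMod 41) at h77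
  rw [x2_entry] at h77
  exact absurd h77 (by decide)

end CfsgLib.StructB.HN133
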