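import Cfsg.Agent.Lib.StructB.HN133.Data0
import Cfsg.Agent.Lib.StructB.HN133.Data1
import Cfsg.Agent.Lib.StructB.HN133.Data2
import Cfsg.Agent.Lib.StructB.HN133.Data3
import Cfsg.Agent.Lib.StructB.HN133.Data4
import Cfsg.Agent.Lib.StructB.HN133.Data5

/-! Products of the matrices. -/

set_option autoImplicit false
set_option maxRecDepth 100000
set_option Elab.async false

namespace CfsgLib.StructB.HN133

theorem mul_x_x : mulOK m_x m_x p_x m_x2 = true := by decide +kernel

theorem mul_x_X : mulOK m_x m_X p_X m_one = true := by decide +kernel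

theorem mul_X_x : mulOK m_X m_x p_x m_one = true := by decide +kernel

theorem mul_y_Y : mulOK m_y m_Y p_Y m_one = true := by decide +kernel

theorem mul_Y_y : mulOK m_Y m_y p_y m_one = true := by decide +kernel

end CfsgLib.StructB.HN133
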