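import Cfsg.Agent.Lib.StructB.HN133.Data0
import Cfsg.Agent.Lib.StructB.HN133.Data1
import Cfsg.Agent.Lib.StructB.HN133.Data2
import Cfsg.Agent.Lib.StructB.HN133.Data3
import Cfsg.Agent.Lib.StructB.HN133.Data4
import Cfsg.Agent.Lib.StructB.HN133.Data5

/-! Products of the matrices. -/

set_option autoImplicit false
set_option maxRecDepth 100000
set_option Elab.async false

namespace CfsgLib.StructB.HN133

theorem mul_zt_zt : mulOK m_zt m_zt p_zt m_zt2 = true := by decide +kernel

theorem mul_zt2_zt : mulOK m_zt2 m_zt p_zt m_one = true := by decide +kernel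

end CfsgLib.StructB.HN133
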