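import Mathlib

/-!
# Matrices of degree 133 over the field of 41 elements, one packed numeral per row

A product is checked with one multiplication and one addition of long numerals per entry of the
left factor.
-/

set_option autoImplicit false

namespace CfsgLib.StructB.HN133

/-- The entries of a row: `n` fields of `2 ^ w`, here with base `B`. -/
def unpack (B : ℕ) : ℕ → ℕ → List ℕ
  | 0, _ => []
  | n + 1, v => v % B :: unpack B n (v / B)

/-- A row as one numeral. -/
def pack (B : ℕ) : List ℕ → ℕ
  | [] => 0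
  | a :: L => a + B * pack B L

/-- A combination of numerals. -/
def dot : List ℕ → List ℕ → ℕ
  | a :: L, b :: M => a * b + dot L M
  | _, _ => 0

/-- Kernel-friendly equality of lists. -/
def leqN : List ℕ → List ℕ → Bool
  | [], [] => true
  | a :: L, b :: M => Nat.beq a b && leqN L M
  | _, _ => false

theorem eq_of_leqN : ∀ {L M : List ℕ}, leqN L M = true → L = M
  | [], [], _ => rfl
  | a :: L, b :: M, h => by
    simp only [leqN, Bool.and_eq_true] at h
    rw [Nat.eq_of_beq_eq_true h.1, eq_of_leqN h.2]
  | [], _ :: _, h => by simp [leqN] at h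
  | _ :: _, [], h => by simp [leqN] at h

theorem unpack_length {B : ℕ} : ∀ (n v : ℕ), (unpack B n v).length = n
  | 0, _ => rfl
  | n + 1, v => by simp [unpack, unpack_length n]

theorem unpack_lt {B : ℕ} (hB : 0 < B) : ∀ (n v : ℕ), ∀ a ∈ unpack B n v, a < B
  | 0, _, _, h => by simp [unpack] at h
  | n + 1, v, a, h => by
    simp only [unpack, List.mem_cons] at h
    rcases h with rfl | h
    · exact Nat.mod_lt _ hB
    · exact unpack_lt hB n _ a h

theorem unpack_pack {B : ℕ} : ∀ (L : List ℕ), (∀ a ∈ L, a < B) → unpack B L.length (pack B L) = L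
  | [], _ => rfl
  | a :: L, h => by
    have ha : a < B := h a (List.mem_cons_self ..)
    have hB : 0 < B := by omega
    simp only [List.length_cons, unpack, pack]
    rw [Nat.add_mul_mod_self_left, Nat.mod_eq_of_lt ha, Nat.add_mul_div_left _ _ hB,
      Nat.div_eq_of_lt ha, zero_add, unpack_pack L fun x hx => h x (List.mem_cons_of_mem _ hx)]

theorem pack_ofFn {B : ℕ} : ∀ {n : ℕ} (f : Fin n → ℕ),
    pack B (List.ofFn f) = ∑ i : Fin n, f i * B ^ (i : ℕ)
  | 0, _ => by simp [pack]
  | n + 1, f => by
    rw [List.ofFn_succ, pack, pack_ofFn, Fin.sum_univ_succ, Finset.mul_sum]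
    simp only [Fin.val_zero, pow_zero, mul_one, Fin.val_succ]
    congr 1
    refine Finset.sum_congr rfl fun i _ => ?_
    rw [pow_succ]
    ring

theorem dot_ofFn : ∀ {n : ℕ} (a b : Fin n → ℕ), dot (List.ofFn a) (List.ofFn b) = ∑ i, a i * b i
  | 0, _, _ => by simp [dot]
  | n + 1, a, b => by rw [List.ofFn_succ, List.ofFn_succ, dot, dot_ofFn, Fin.sum_univ_succ]

/-- The matrix of a list of packed rows. -/
def matN (n : ℕ) (R : List ℕ) : Matrix (Fin n) (Fin n) (ZMod 41) :=
  fun i j => (((unpack 256 n (R.getD (i : ℕ) 0)).getD (j : ℕ) 0 : ℕ) : ZMod 41)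

/-- `C` is the product of `A` and `M`; `P` holds the rows of `M` with fields of size `B`. -/
def mulOKN (n B : ℕ) (A M P C : List ℕ) : Bool :=
  leqN P ((List.range n).map fun k => pack B (unpack 256 n (M.getD k 0))) &&
    (List.range n).all fun i =>
      leqN ((unpack B n (dot (unpack 256 n (A.getD i 0)) P)).map fun a => a % 41)
        ((unpack 256 n (C.getD i 0)).map fun a => a % 41)

/-- An entry. -/
def entry (n : ℕ) (R : List ℕ) (i j : ℕ) : ℕ := (unpack 256 n (R.getD i 0)).getD j 0

theorem entry_lt (n : ℕ) (R : List ℕ) (i j : ℕ) : entry n R i j < 256 := by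
  unfold entry
  rcases lt_or_ge j (unpack 256 n (R.getD i 0)).length with hj | hj
  · rw [List.getD_eq_getElem _ _ hj]; exact unpack_lt (by omega) _ _ _ (List.getElem_mem hj)
  · rw [List.getD_eq_default _ _ hj]; omega

theorem unpack_eq_entry (n : ℕ) (R : List ℕ) (i : ℕ) :
    unpack 256 n (R.getD i 0) = List.ofFn fun j : Fin n => entry n R i j := by
  apply List.ext_getElem
  · rw [unpack_length, List.length_ofFn]
  · intro j hj hj'
    rw [List.getElem_ofFn, entry, List.getD_eq_getElem _ _ hj]

theorem mulN_of_ok {n B : ℕ} (hB : n * (255 * 255) < B) {A M P C : List ℕ}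
    (h : mulOKN n B A M P C = true) : matN n A * matN n M = matN n C := by
  simp only [mulOKN, Bool.and_eq_true, List.all_eq_true, List.mem_range] at h
  obtain ⟨hP, hr⟩ := h
  have hP := eq_of_leqN hP
  have hPf : P = List.ofFn fun k : Fin n => ∑ j : Fin n, entry n M k j * B ^ (j : ℕ) := by
    rw [hP]
    apply List.ext_getElem
    · rw [List.length_map, List.length_range, List.length_ofFn]
    · intro k hk hk'
      rw [List.getElem_map, List.getElem_range, List.getElem_ofFn, unpack_eq_entry, pack_ofFn]
  ext i j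
  have hi := eq_of_leqN (hr i i.2)
  rw [unpack_eq_entry, unpack_eq_entry, hPf, dot_ofFn] at hi
  have hsum : (∑ k : Fin n, entry n A i k * ∑ j : Fin n, entry n M k j * B ^ (j : ℕ)) =
      pack B (List.ofFn fun j : Fin n => ∑ k : Fin n, entry n A i k * entry n M k j) := by
    rw [pack_ofFn]
    simp only [Finset.mul_sum, Finset.sum_mul]
    rw [Finset.sum_comm]
    exact Finset.sum_congr rfl fun a _ => Finset.sum_congr rfl fun b _ => (mul_assoc _ _ _).symm
  rw [hsum] at hi
  have hb : ∀ a ∈ List.ofFn (fun j : Fin n => ∑ k : Fin n, entry n A i k * entry n M k j), a < B := by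
    intro a ha
    obtain ⟨j, rfl⟩ := List.mem_ofFn.1 ha
    calc ∑ k : Fin n, entry n A i k * entry n M k j ≤ ∑ _k : Fin n, 255 * 255 :=
          Finset.sum_le_sum fun k _ => Nat.mul_le_mul (Nat.le_of_lt_succ (entry_lt _ _ _ _))
            (Nat.le_of_lt_succ (entry_lt _ _ _ _))
      _ < B := by rw [Finset.sum_const, Finset.card_univ, Fintype.card_fin, smul_eq_mul]; exact hB
  have hu := unpack_pack _ hb
  rw [List.length_ofFn] at hu
  rw [hu, List.map_ofFn, List.map_ofFn] at hi
  have hj := congrFun (List.ofFn_injective hi) j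
  have hz := (ZMod.natCast_eq_natCast_iff' _ _ 41).2 hj
  rw [Nat.cast_sum] at hz
  simp only [Nat.cast_mul] at hz
  rw [Matrix.mul_apply]
  exact hz

theorem matN_eq_one {n : ℕ} {R : List ℕ}
    (h : (List.range n).all (fun i => leqN (unpack 256 n (R.getD i 0))
      ((List.range n).map fun j => bif Nat.beq i j then 1 else 0)) = true) : matN n R = 1 := by
  simp only [List.all_eq_true, List.mem_range] at h
  ext i j
  show (((unpack 256 n (R.getD (i : ℕ) 0)).getD (j : ℕ) 0 : ℕ) : ZMod 41) = _
  rw [eq_of_leqN (h i i.2), List.getD_eq_getElem _ _ (by simp), List.getElem_map,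
    List.getElem_range]
  rcases eq_or_ne i j with rfl | hne
  · simp [Nat.beq_refl]
  · have : Nat.beq (i : ℕ) (j : ℕ) = false := by
      cases hb : Nat.beq (i : ℕ) (j : ℕ)
      · rfl
      · exact absurd (Fin.ext (Nat.eq_of_beq_eq_true hb)) hne
    simp [this, Matrix.one_apply_ne hne]

/-- Matrices of degree 133. -/
abbrev mat (R : List ℕ) : Matrix (Fin 133) (Fin 133) (ZMod 41) := matN 133 R

/-- The check used for degree 133. -/
abbrev mulOK (A M P C : List ℕ) : Bool := mulOKN 133 16777216 A M P C

theorem mul_of_ok {A M P C : List ℕ} (h : mulOK A M P C = true) : mat A * mat M = mat C :=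
  mulN_of_ok (by decide) h

end CfsgLib.StructB.HN133
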